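import Mathlib.RingTheory.Valuation.ValuationRing
import Mathlib.RingTheory.Localization.AtPrime.Basic
import Mathlib.RingTheory.Localization.Integer
import Mathlib.RingTheory.Bezout
import Mathlib.RingTheory.Finiteness.Basic
import Mathlib.LinearAlgebra.Pi
import Mathlib.Algebra.Module.FinitePresentation

universe u

namespace Groth.Agent.BezoutFP

open Submodule

/-- Diagonal form for fg submodules of `L^n` over a valuation domain. -/
theorem exists_diag (L : Type u) [CommRing L] [IsDomain L] [ValuationRing L] :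
    ∀ (n : ℕ) (K : Submodule L (Fin n → L)), K.FG →
      ∃ (e : (Fin n → L) ≃ₗ[L] (Fin n → L)) (d : Fin n → L),
        ∀ x, x ∈ K ↔ ∀ i, d i ∣ e x i := by
  classical
  intro n
  induction n with
  | zero =>
    intro K _
    refine ⟨LinearEquiv.refl _ _, Fin.elim0, fun x => ⟨fun _ i => i.elim0, fun _ => ?_⟩⟩
    rw [Subsingleton.elim x 0]
    exact K.zero_mem
  | succ n ih =>
    intro K hK
    obtain ⟨j0, hj0⟩ := Finite.exists_max fun j : Fin (n + 1) => K.map (LinearMap.proj (R := L) j)
    obtain ⟨a, ha⟩ := (IsBezout.isPrincipal_of_FG (K.map (LinearMap.proj (R := L) j0)) (hK.map _)).principal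
    have hdvd : ∀ x ∈ K, ∀ j, a ∣ x j := by
      intro x hx j
      have h1 : x j ∈ K.map (LinearMap.proj (R := L) j0) := hj0 j ⟨x, hx, rfl⟩
      rw [ha, Submodule.mem_span_singleton] at h1
      obtain ⟨c, hc⟩ := h1
      exact ⟨c, by rw [← hc, smul_eq_mul, mul_comm]⟩
    by_cases ha0 : a = 0
    · refine ⟨LinearEquiv.refl _ _, 0, fun x => ⟨fun hx i => ?_, fun h => ?_⟩⟩
      · have := hdvd x hx i
        rw [ha0] at this
        exact this
      · have : x = 0 := funext fun i => zero_dvd_iff.1 (h i)
        rw [this]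
        exact K.zero_mem
    obtain ⟨x0, hx0, hx0a⟩ : a ∈ K.map (LinearMap.proj (R := L) j0) := by
      rw [ha]; exact Submodule.mem_span_singleton_self a
    change x0 j0 = a at hx0a
    choose w hw using hdvd x0 hx0
    have hw0 : w j0 = 1 := mul_left_cancel₀ ha0 (by rw [← hw, hx0a, mul_one])
    let P : (Fin (n + 1) → L) →ₗ[L] (Fin n → L) :=
      { toFun := fun x i => x (j0.succAbove i) - x j0 * w (j0.succAbove i)
        map_add' := fun x y => funext fun i => by simp only [Pi.add_apply]; ring
        map_smul' := fun r x => funext fun i => by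
          simp only [Pi.smul_apply, smul_eq_mul, RingHom.id_apply]; ring }
    obtain ⟨e', d', hd'⟩ := ih (K.map P) (hK.map P)
    let G : L → (Fin n → L) → (Fin (n + 1) → L) := fun t y =>
      Fin.insertNth j0 t (fun i => y i + t * w (j0.succAbove i))
    have hG : ∀ x, G (x j0) (P x) = x := by
      intro x
      funext j
      refine Fin.succAboveCases j0 ?_ (fun i => ?_) j
      · simp [G]
      · simp [G, P]
    have hG' : ∀ t y, G t y j0 = t ∧ P (G t y) = y := by
      intro t y
      refine ⟨by simp [G], funext fun i => ?_⟩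
      simp [G, P]
    let e : (Fin (n + 1) → L) ≃ₗ[L] (Fin (n + 1) → L) :=
      { toFun := fun x => Fin.cons (x j0) (e' (P x))
        map_add' := fun x y => by
          funext j
          refine Fin.cases ?_ (fun i => ?_) j <;> simp
        map_smul' := fun r x => by
          funext j
          refine Fin.cases ?_ (fun i => ?_) j <;> simp
        invFun := fun y => G (y 0) (e'.symm (Fin.tail y))
        left_inv := fun x => by simp [hG]
        right_inv := fun y => by
          obtain ⟨h1, h2⟩ := hG' (y 0) (e'.symm (Fin.tail y))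
          simp [h1, h2] }
    refine ⟨e, Fin.cons a d', fun x => ?_⟩
    constructor
    · intro hx j
      refine Fin.cases ?_ (fun i => ?_) j
      · simpa [e] using hdvd x hx j0
      · simpa [e] using (hd' (P x)).1 ⟨x, hx, rfl⟩ i
    · intro h
      obtain ⟨z, hz, hzP⟩ := (hd' (P x)).2 fun i => by simpa [e] using h i.succ
      obtain ⟨c, hc⟩ : a ∣ x j0 - z j0 := dvd_sub (by simpa [e] using h 0) (hdvd z hz j0)
      have : x = z + c • x0 := by
        funext j
        refine Fin.succAboveCases j0 ?_ (fun i => ?_) j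
        · simp only [Pi.add_apply, Pi.smul_apply, smul_eq_mul, hx0a]
          linear_combination hc
        · have h1 : z (j0.succAbove i) - z j0 * w (j0.succAbove i)
              = x (j0.succAbove i) - x j0 * w (j0.succAbove i) := congrFun hzP i
          simp only [Pi.add_apply, Pi.smul_apply, smul_eq_mul, hw (j0.succAbove i)]
          linear_combination w (j0.succAbove i) * hc - h1
      rw [this]
      exact K.add_mem hz (K.smul_mem c hx0)

/-- A localization at a prime of a Bezout domain is a valuation ring. -/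
theorem valuationRing_atPrime (R : Type u) [CommRing R] [IsDomain R] [IsBezout R]
    (P : Ideal R) [P.IsPrime] : ValuationRing (Localization.AtPrime P) := by
  refine ValuationRing.iff_dvd_total.2 ⟨fun x y => ?_⟩
  obtain ⟨⟨a, s⟩, rfl⟩ := IsLocalization.mk'_surjective P.primeCompl x |>.imp fun p h => h
  obtain ⟨⟨b, t⟩, rfl⟩ := IsLocalization.mk'_surjective P.primeCompl y |>.imp fun p h => h
  have key : algebraMap R (Localization.AtPrime P) a ∣ algebraMap R (Localization.AtPrime P) b ∨
      algebraMap R (Localization.AtPrime P) b ∣ algebraMap R (Localization.AtPrime P) a := by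
    obtain ⟨g, hg⟩ := (IsBezout.span_pair_isPrincipal a b).principal
    obtain ⟨a', ha'⟩ : g ∣ a := by
      rw [← Ideal.mem_span_singleton, Ideal.span, ← hg]; exact subset_span (by simp)
    obtain ⟨b', hb'⟩ : g ∣ b := by
      rw [← Ideal.mem_span_singleton, Ideal.span, ← hg]; exact subset_span (by simp)
    by_cases hg0 : g = 0
    · left; simp [ha', hb', hg0]
    obtain ⟨p, q, hpq⟩ : ∃ p q, p * a + q * b = g := by
      have : g ∈ Ideal.span ({a, b} : Set R) := by rw [hg]; exact mem_span_singleton_self g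
      obtain ⟨p, q, h⟩ := Submodule.mem_span_pair.1 this
      exact ⟨p, q, by simpa [smul_eq_mul] using h⟩
    have h1 : p * a' + q * b' = 1 := mul_left_cancel₀ hg0 (by
      rw [ha', hb'] at hpq; linear_combination hpq)
    by_cases hA : a' ∈ P
    · right
      have hB : b' ∉ P := fun hB => by
        apply (inferInstance : P.IsPrime).ne_top
        rw [Ideal.eq_top_iff_one, ← h1]
        exact P.add_mem (P.mul_mem_left p hA) (P.mul_mem_left q hB)
      rw [ha', hb', map_mul, map_mul]
      exact mul_dvd_mul_left _ (IsLocalization.map_units _ (⟨b', hB⟩ : P.primeCompl)).dvd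
    · left
      rw [ha', hb', map_mul, map_mul]
      exact mul_dvd_mul_left _ (IsLocalization.map_units _ (⟨a', hA⟩ : P.primeCompl)).dvd
  have hu : ∀ (r : R) (s : P.primeCompl),
      Associated (algebraMap R (Localization.AtPrime P) r) (IsLocalization.mk' _ r s) := by
    intro r s
    obtain ⟨u, hu⟩ := IsLocalization.map_units (Localization.AtPrime P) s
    refine Associated.symm ⟨u, ?_⟩
    rw [hu, IsLocalization.mk'_spec]
  rcases key with h | h
  · exact Or.inl ((hu a s).dvd_iff_dvd_left.1 ((hu b t).dvd_iff_dvd_right.1 h))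
  · exact Or.inr ((hu b t).dvd_iff_dvd_left.1 ((hu a s).dvd_iff_dvd_right.1 h))

variable {R : Type u} [CommRing R] [IsDomain R] [IsBezout R]

/-- Endomorphisms factoring through a cyclic module `R/f`, `f ≠ 0`. -/
def cyclicFactor (T : Type u) [AddCommGroup T] [Module R T] : Set (T →ₗ[R] T) :=
  {φ | ∃ f : R, f ≠ 0 ∧ ∃ (i : T →ₗ[R] R ⧸ Ideal.span {f}) (p : (R ⧸ Ideal.span {f}) →ₗ[R] T),
    φ = p ∘ₗ i}

theorem id_mem_span_cyclicFactor (T : Type u) [AddCommGroup T] [Module R T]
    [Module.FinitePresentation R T] (htors : ∀ x : T, ∃ a : R, a ≠ 0 ∧ a • x = 0) :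
    (LinearMap.id : T →ₗ[R] T) ∈ Submodule.span R (cyclicFactor (R := R) T) := by
  classical
  set J := Submodule.span R (cyclicFactor (R := R) T)
  obtain ⟨n, π, hπ⟩ := Module.Finite.exists_fin' R T
  obtain ⟨S, hS⟩ := Module.FinitePresentation.fg_ker π hπ
  let I : Ideal R := J.comap (LinearMap.toSpanSingleton R (T →ₗ[R] T) LinearMap.id)
  suffices hI : I = ⊤ by
    have h1 : (1 : R) ∈ I := hI ▸ Submodule.mem_top
    simpa [I] using h1
  by_contra hne
  obtain ⟨P, hP, hIP⟩ := Ideal.exists_le_maximal I hne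
  haveI := hP.isPrime
  let L := Localization.AtPrime P
  haveI : ValuationRing L := valuationRing_atPrime R P
  have hinj : Function.Injective (algebraMap R L) :=
    IsLocalization.injective L P.primeCompl_le_nonZeroDivisors
  let φ : (Fin n → R) →ₗ[R] (Fin n → L) := (Algebra.linearMap R L).compLeft (Fin n)
  have hφinj : Function.Injective φ := fun x y h => funext fun i => hinj (congrFun h i)
  let KL : Submodule L (Fin n → L) := Submodule.span L (φ '' (S : Set (Fin n → R)))
  have hker : ∀ z, π z = 0 → φ z ∈ KL := by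
    intro z hz
    have hz' : z ∈ Submodule.span R (S : Set (Fin n → R)) := by rw [hS]; exact hz
    have : φ z ∈ (Submodule.span R (S : Set (Fin n → R))).map φ := ⟨z, hz', rfl⟩
    rw [Submodule.map_span] at this
    exact Submodule.span_le_restrictScalars R L _ this
  have hmem : ∀ y ∈ KL, ∃ s ∈ P.primeCompl, ∃ z, π z = 0 ∧ s • y = φ z := by
    intro y hy
    induction hy using Submodule.span_induction with
    | mem y hy =>
      obtain ⟨z, hz, rfl⟩ := hy
      refine ⟨1, P.primeCompl.one_mem, z, ?_, one_smul _ _⟩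
      have : z ∈ LinearMap.ker π := by rw [← hS]; exact Submodule.subset_span hz
      exact this
    | zero => exact ⟨1, P.primeCompl.one_mem, 0, map_zero _, by simp⟩
    | add y y' _ _ hy hy' =>
      obtain ⟨s, hs, z, hz, hsy⟩ := hy
      obtain ⟨s', hs', z', hz', hsy'⟩ := hy'
      refine ⟨s * s', P.primeCompl.mul_mem hs hs', s' • z + s • z', by simp [hz, hz'], ?_⟩
      rw [smul_add, map_add, map_smul, map_smul, ← hsy, ← hsy', smul_smul, smul_smul, mul_comm s' s]
    | smul c y _ hy =>
      obtain ⟨s, hs, z, hz, hsy⟩ := hy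
      obtain ⟨⟨c0, t⟩, hc⟩ := IsLocalization.surj P.primeCompl c
      refine ⟨(t : R) * s, P.primeCompl.mul_mem t.2 hs, c0 • z, by simp [hz], ?_⟩
      rw [map_smul, ← hsy, mul_smul, smul_comm s c y, ← algebraMap_smul L (t : R), smul_smul,
        mul_comm _ c, hc, algebraMap_smul]
  obtain ⟨e, d, hd⟩ := exists_diag L n KL (Submodule.fg_span (S.finite_toSet.image φ))
  -- a single nonzero element killing `T`
  choose a ha0 ha using fun k : Fin n => htors (π (Pi.single k 1))
  let F : R := ∏ k, a k
  have hF0 : F ≠ 0 := Finset.prod_ne_zero_iff.2 fun k _ => ha0 k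
  have hFT : ∀ z, π (F • z) = 0 := by
    have : (F • π) = 0 := by
      refine (Pi.basisFun R (Fin n)).ext fun k => ?_
      obtain ⟨c, hc⟩ : a k ∣ F := Finset.dvd_prod_of_mem a (Finset.mem_univ k)
      simp [hc, mul_comm (a k) c, mul_smul, ha k]
    intro z
    rw [map_smul]
    exact LinearMap.congr_fun this z
  have hd0 : ∀ i, d i ≠ 0 := by
    intro i hi
    let v := e.symm (Pi.single i 1)
    obtain ⟨⟨s, hs⟩, hsv⟩ := IsLocalization.exist_integer_multiples_of_finite P.primeCompl v
    choose β hβ using hsv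
    have h1 : φ (F • β) ∈ KL := hker _ (hFT β)
    have h2 := (hd _).1 h1 i
    have h3 : φ (F • β) = (algebraMap R L (F * s)) • v := by
      funext k
      change algebraMap R L (F * β k) = algebraMap R L (F * s) * v k
      rw [map_mul, map_mul, hβ k, Algebra.smul_def, mul_assoc]
    rw [h3, map_smul, Pi.smul_apply, LinearEquiv.apply_symm_apply, hi, zero_dvd_iff] at h2
    simp only [Pi.single_eq_same, smul_eq_mul, mul_one] at h2
    have hs0 : s ≠ 0 := fun h => hs (by rw [h]; exact P.zero_mem)
    exact mul_ne_zero hF0 hs0 (hinj (by rw [h2, map_zero]))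
  choose f hf using fun i => IsLocalization.surj P.primeCompl (d i)
  have hf0 : ∀ i, (f i).1 ≠ 0 := fun i h => by
    have := hf i
    rw [h, map_zero, mul_eq_zero] at this
    exact this.elim (hd0 i) (fun h' => (IsLocalization.map_units L (f i).2).ne_zero h')
  have hfd : ∀ i, Associated (d i) (algebraMap R L (f i).1) := fun i => by
    obtain ⟨u, hu⟩ := IsLocalization.map_units L (f i).2
    exact ⟨u, by rw [hu]; exact hf i⟩
  -- integral basis
  obtain ⟨⟨s, hs⟩, hsv⟩ := IsLocalization.exist_integer_multiples_of_finite P.primeCompl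
    (fun ik : Fin n × Fin n => e.symm (Pi.single ik.1 1) ik.2)
  choose β hβ using hsv
  let B : Fin n → (Fin n → R) := fun i k => β (i, k)
  have hB : ∀ i, φ (B i) = algebraMap R L s • e.symm (Pi.single i 1) := fun i => funext fun k => by
    change algebraMap R L (β (i, k)) = algebraMap R L s * _
    rw [hβ, Algebra.smul_def]
  -- relations
  have hrel : ∀ i, ∃ t ∈ P.primeCompl, π (t • (f i).1 • B i) = 0 := by
    intro i
    have h1 : φ ((f i).1 • B i) ∈ KL := by
      rw [hd]
      intro j
      rw [map_smul, hB, ← algebraMap_smul L (f i).1, smul_smul, map_smul, LinearEquiv.apply_symm_apply,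
        Pi.smul_apply, smul_eq_mul]
      by_cases hji : j = i
      · subst hji
        rw [Pi.single_eq_same, mul_one]
        exact (hfd j).dvd.mul_right _
      · rw [Pi.single_eq_of_ne hji, mul_zero]
        exact dvd_zero _
    obtain ⟨t, ht, z, hz, htz⟩ := hmem _ h1
    rw [← map_smul] at htz
    exact ⟨t, ht, by rw [hφinj htz, hz]⟩
  choose t ht htB using hrel
  let T0 : R := ∏ i, t i
  have hT0 : T0 ∈ P.primeCompl := Submonoid.prod_mem _ fun i _ => ht i
  let x : Fin n → T := fun i => π (T0 • B i)
  have hx : ∀ i, (f i).1 • x i = 0 := fun i => by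
    obtain ⟨c, hc⟩ : t i ∣ T0 := Finset.dvd_prod_of_mem t (Finset.mem_univ i)
    have h := htB i
    rw [map_smul, map_smul] at h
    change (f i).1 • π (T0 • B i) = 0
    rw [map_smul, smul_comm, hc, mul_comm (t i) c, mul_smul, h, smul_zero]
  have hσ : algebraMap R L (T0 * s) ≠ 0 := fun h =>
    (P.primeCompl.mul_mem hT0 hs) (by rw [hinj (h.trans (map_zero _).symm)]; exact P.zero_mem)
  have hcomb : ∀ b : Fin n → R, φ (∑ i, b i • T0 • B i)
      = algebraMap R L (T0 * s) • e.symm (fun i => algebraMap R L (b i)) := by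
    intro b
    have h1 : (fun i => algebraMap R L (b i)) = ∑ i, algebraMap R L (b i) • Pi.single i (1 : L) := by
      funext j; simp [Finset.sum_apply, Pi.single_apply, Algebra.smul_def]
    rw [h1, map_sum, map_sum, Finset.smul_sum]
    refine Finset.sum_congr rfl fun i _ => ?_
    rw [map_smul, map_smul, map_smul, hB, ← algebraMap_smul L (b i), ← algebraMap_smul L T0,
      smul_smul, smul_smul, smul_smul, map_mul]
    congr 1
    ring
  -- expressing the generators
  obtain ⟨⟨u, hu⟩, huc⟩ := IsLocalization.exist_integer_multiples_of_finite P.primeCompl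
    (fun ki : Fin n × Fin n => e (φ (Pi.single ki.1 1)) ki.2)
  choose C hC using huc
  let σ : R := u * (T0 * s)
  have hgen : ∀ k, σ • (Pi.single k 1 : Fin n → R) = ∑ i, C (k, i) • T0 • B i := by
    intro k
    apply hφinj
    rw [hcomb, map_smul]
    have h1 : (fun i => algebraMap R L (C (k, i))) = algebraMap R L u • e (φ (Pi.single k 1)) :=
      funext fun i => by rw [hC, Pi.smul_apply, smul_eq_mul, Algebra.smul_def]
    rw [h1, map_smul, LinearEquiv.symm_apply_apply, smul_smul, ← map_mul,
      ← algebraMap_smul L σ (φ (Pi.single k 1))]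
    congr 2
    ring
  let Cm : (Fin n → R) →ₗ[R] (Fin n → R) :=
    (Pi.basisFun R (Fin n)).constr R fun k i => C (k, i)
  let q : (Fin n → R) →ₗ[R] T := π ∘ₗ (Pi.basisFun R (Fin n)).constr R fun i => T0 • B i
  have hCm : ∀ z, q (Cm z) = σ • π z := by
    have : q ∘ₗ Cm = σ • π := by
      refine (Pi.basisFun R (Fin n)).ext fun k => ?_
      have h := congrArg π (hgen k)
      simp only [q, Cm, LinearMap.comp_apply, LinearMap.smul_apply, Module.Basis.constr_basis]
      rw [Module.Basis.constr_apply_fintype, Pi.basisFun_apply, ← map_smul, hgen k]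
      simp [Pi.basisFun_equivFun]
    exact fun z => LinearMap.congr_fun this z
  have hkerq : ∀ b, q b = 0 → ∀ i, ∃ r ∈ P.primeCompl, (f i).1 ∣ r * b i := by
    intro b hb i
    have h0 : π (∑ j, b j • T0 • B j) = 0 := by
      simpa [q, Module.Basis.constr_apply_fintype, Pi.basisFun_equivFun] using hb
    have h1 := (hd _).1 (hker _ h0) i
    rw [hcomb, map_smul, LinearEquiv.apply_symm_apply, Pi.smul_apply, smul_eq_mul] at h1
    have h2 : algebraMap R L (f i).1 ∣ algebraMap R L (b i) :=
      (hfd i).dvd_iff_dvd_left.1 ((IsUnit.dvd_mul_left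
        (IsLocalization.map_units L (⟨_, P.primeCompl.mul_mem hT0 hs⟩ : P.primeCompl))).1 h1)
    obtain ⟨c, hc⟩ := h2
    obtain ⟨⟨c0, r⟩, hr⟩ := IsLocalization.surj P.primeCompl c
    refine ⟨r, r.2, c0, hinj ?_⟩
    rw [map_mul, map_mul, hc, ← hr]
    ring
  choose r hr hrd using fun (g : {g // g ∈ S}) (i : Fin n) => hkerq (Cm g.1) (by
    have : π g.1 = 0 := by
      have : g.1 ∈ LinearMap.ker π := by rw [← hS]; exact Submodule.subset_span g.2
      exact this
    rw [hCm, this, smul_zero]) i
  let ρ : R := ∏ g, ∏ i, r g i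
  have hρ : ρ ∈ P.primeCompl := Submonoid.prod_mem _ fun g _ => Submonoid.prod_mem _ fun i _ => hr g i
  -- the factorisation
  have hfac : ∀ i, ∃ (a : T →ₗ[R] R ⧸ Ideal.span {(f i).1}), ∀ z,
      a (π z) = Ideal.Quotient.mk (Ideal.span {(f i).1}) (ρ * Cm z i) := by
    intro i
    let ψ : (Fin n → R) →ₗ[R] R ⧸ Ideal.span {(f i).1} :=
      (Submodule.mkQ (Ideal.span {(f i).1})) ∘ₗ (ρ • (LinearMap.proj i ∘ₗ Cm))
    have hψ : LinearMap.ker π ≤ LinearMap.ker ψ := by
      rw [← hS, Submodule.span_le]
      intro g hg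
      refine (Submodule.Quotient.mk_eq_zero _).2 (Ideal.mem_span_singleton.2 ?_)
      refine (hrd ⟨g, hg⟩ i).trans (mul_dvd_mul_right ?_ _)
      exact (Finset.dvd_prod_of_mem _ (Finset.mem_univ i)).trans
        (Finset.dvd_prod_of_mem (fun g => ∏ i, r g i) (Finset.mem_univ (⟨g, hg⟩ : {g // g ∈ S})))
    refine ⟨(Submodule.liftQ _ ψ hψ) ∘ₗ (LinearMap.quotKerEquivOfSurjective π hπ).symm.toLinearMap,
      fun z => ?_⟩
    have : (LinearMap.quotKerEquivOfSurjective π hπ).symm (π z) = Submodule.Quotient.mk z := by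
      rw [LinearEquiv.symm_apply_eq]; rfl
    simp only [LinearMap.comp_apply, LinearEquiv.coe_coe, this]
    rfl
  choose ia hia using hfac
  let pp : ∀ i, (R ⧸ Ideal.span {(f i).1}) →ₗ[R] T := fun i =>
    Submodule.liftQ _ (LinearMap.toSpanSingleton R T (x i)) (by
      intro c hc
      obtain ⟨c', rfl⟩ := Ideal.mem_span_singleton.1 hc
      rw [LinearMap.mem_ker, LinearMap.toSpanSingleton_apply, mul_comm, mul_smul, hx, smul_zero])
  have hsum : ∑ i, pp i ∘ₗ ia i = (ρ * σ) • LinearMap.id := by
    refine LinearMap.ext fun y => ?_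
    obtain ⟨z, rfl⟩ := hπ y
    rw [LinearMap.smul_apply, LinearMap.id_apply, mul_smul, ← hCm, LinearMap.sum_apply]
    simp only [LinearMap.comp_apply, hia, q, Module.Basis.constr_apply_fintype, map_sum,
      Finset.smul_sum]
    refine Finset.sum_congr rfl fun i _ => ?_
    change (ρ * Cm z i) • x i = _
    simp [x, mul_smul, Pi.basisFun_equivFun]
  have hmemI : ρ * σ ∈ I := by
    change LinearMap.toSpanSingleton R (T →ₗ[R] T) LinearMap.id (ρ * σ) ∈ J
    rw [LinearMap.toSpanSingleton_apply, ← hsum]
    exact Submodule.sum_mem _ fun i _ =>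
      Submodule.subset_span ⟨(f i).1, hf0 i, ia i, pp i, rfl⟩
  exact (P.primeCompl.mul_mem hρ (P.primeCompl.mul_mem hu (P.primeCompl.mul_mem hT0 hs))) (hIP hmemI)

end Groth.Agent.BezoutFP
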